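import Cfsg.Agent.Class.SpOrth

/-!
Symplectic groups in characteristic two: subgroups containing, for a vector `a`, a full
complement to the transvections in the unipotent radical of the stabiliser of `a`.
-/

set_option autoImplicit false

namespace Cfsg.Lib.Class.Ev

open Module

variable {F V : Type*} [Field F] [AddCommGroup V] [Module F V] [CharP F 2]
  {B : LinearMap.BilinForm F V} {L : Subgroup (V ≃ₗ[F] V)}

/-- The standing hypotheses: an irreducible group of isometries of an alternating form. -/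
structure Ctx (B : LinearMap.BilinForm F V) (L : Subgroup (V ≃ₗ[F] V)) : Prop where
  nd : B.Nondegenerate
  alt : B.IsAlt
  le : L ≤ SpB B
  irr : ∀ W : Submodule F V, (∀ g ∈ L, ∀ w ∈ W, g w ∈ W) → W = ⊥ ∨ W = ⊤

/-- The element of the radical of the stabiliser of `a` with parameters `u`, `c` is in `L`. -/
def A (B : LinearMap.BilinForm F V) (L : Subgroup (V ≃ₗ[F] V)) (a u : V) (c : F) : Prop :=
  B u a = 0 ∧ ∃ g ∈ L, ∀ z, g z = z + B z a • u + (B z u + c * B z a) • a

/-- All first parameters occur at `a`. -/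
def Full (B : LinearMap.BilinForm F V) (L : Subgroup (V ≃ₗ[F] V)) (a : V) : Prop :=
  a ≠ 0 ∧ ∀ u, B u a = 0 → ∃ c, A B L a u c

theorem two_eq : (2 : F) = 0 := CharTwo.two_eq_zero

omit [CharP F 2] in
theorem Ctx.self (C : Ctx B L) (x : V) : B x x = 0 := C.alt x

theorem Ctx.sym (C : Ctx B L) (x y : V) : B x y = B y x := by
  rw [← C.alt.neg_eq, CharTwo.neg_eq]

omit [CharP F 2] in
theorem Ctx.iso (C : Ctx B L) {g : V ≃ₗ[F] V} (hg : g ∈ L) (x y : V) :
    B (g x) (g y) = B x y := C.le hg x y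

theorem vadd_self (x : V) (F : Type*) [Field F] [CharP F 2] [Module F V] : x + x = 0 := by
  rw [← two_smul F, two_eq, zero_smul]

theorem A.add (C : Ctx B L) {a u u' : V} {c c' : F} (h : A B L a u c) (h' : A B L a u' c') :
    A B L a (u + u') (c + c' + B u u') := by
  obtain ⟨h0, g, hg, H⟩ := h
  obtain ⟨h0', g', hg', H'⟩ := h'
  refine ⟨by simp [h0, h0'], g * g', mul_mem hg hg', fun z => ?_⟩
  rw [LinearEquiv.mul_apply, H', H]
  simp only [map_add, map_smul, LinearMap.add_apply, LinearMap.smul_apply, smul_eq_mul, C.self,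
    h0', C.sym a u, h0, C.sym u' u]
  match_scalars <;> grind

theorem A.self (C : Ctx B L) (a : V) (t : F) : A B L a (t • a) 0 :=
  ⟨by simp [C.self], 1, one_mem _, fun z => by
    simp only [LinearEquiv.coe_one, id, map_smul, smul_eq_mul]
    match_scalars <;> grind⟩

theorem A.zero (C : Ctx B L) (a : V) : A B L a 0 0 := by simpa using A.self C a 0

theorem A.shift (C : Ctx B L) {a u : V} {c : F} (h : A B L a u c) (t : F) :
    A B L a (u + t • a) c := by
  simpa [h.1] using h.add C (A.self C a t)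

omit [CharP F 2] in
theorem A.conj (C : Ctx B L) {g : V ≃ₗ[F] V} (hg : g ∈ L) {a u : V} {c : F} (h : A B L a u c) :
    A B L (g a) (g u) c := by
  obtain ⟨h0, x, hx, H⟩ := h
  refine ⟨by rw [C.iso hg, h0], g * x * g⁻¹, mul_mem (mul_mem hg hx) (inv_mem hg), fun z => ?_⟩
  obtain ⟨z, rfl⟩ := g.surjective z
  simp [H, C.iso hg]

omit [CharP F 2] in
theorem A.of_smul {a u : V} {s c : F} (h : A B L (s • a) u c) : A B L a (s • u) (s ^ 2 * c) := by
  obtain ⟨h0, x, hx, H⟩ := h
  refine ⟨by simpa using h0, x, hx, fun z => ?_⟩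
  rw [H]
  simp only [map_smul, smul_eq_mul]
  match_scalars <;> ring

omit [CharP F 2] in
theorem A.to_smul {a u : V} {s c : F} (hs : s ≠ 0) (h : A B L a u c) :
    A B L (s • a) (s⁻¹ • u) (s⁻¹ ^ 2 * c) :=
  A.of_smul (by rwa [smul_smul, inv_mul_cancel₀ hs, one_smul])

omit [CharP F 2] in
theorem Full.conj (C : Ctx B L) {g : V ≃ₗ[F] V} (hg : g ∈ L) {a : V} (h : Full B L a) :
    Full B L (g a) := by
  refine ⟨by simpa using h.1, fun u hu => ?_⟩
  obtain ⟨u, rfl⟩ := g.surjective u
  rw [C.iso hg] at hu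
  obtain ⟨c, hc⟩ := h.2 u hu
  exact ⟨c, hc.conj C hg⟩

omit [CharP F 2] in
theorem Full.smul {a : V} {s : F} (hs : s ≠ 0) (h : Full B L a) : Full B L (s • a) := by
  refine ⟨smul_ne_zero hs h.1, fun u hu => ?_⟩
  obtain ⟨c, hc⟩ := h.2 (s • u) (by simpa using hu)
  exact ⟨_, by simpa [smul_smul, inv_mul_cancel₀ hs] using hc.to_smul hs⟩

omit [CharP F 2] in
/-- An invariant set containing a non-zero vector is not orthogonal to any non-zero vector. -/
theorem Ctx.exists_ne (C : Ctx B L) (S : V → Prop) (hS : ∀ g ∈ L, ∀ v, S v → S (g v)) {a : V}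
    (ha : a ≠ 0) (hSa : S a) {v : V} (hv : v ≠ 0) : ∃ b, S b ∧ B b v ≠ 0 := by
  by_contra! hcon
  let W : Submodule F V :=
    { carrier := {w | ∀ b, S b → B b w = 0}
      add_mem' := fun hx hy b hb => by rw [map_add, hx b hb, hy b hb, add_zero]
      zero_mem' := fun b _ => map_zero _
      smul_mem' := fun c x hx b hb => by rw [map_smul, hx b hb, smul_zero] }
  rcases C.irr W (fun g hg w hw b hb => by
    have := hw _ (hS _ (inv_mem hg) b hb)
    rwa [← C.iso hg, LinearEquiv.coe_inv, LinearEquiv.apply_symm_apply] at this) with h | h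
  · exact hv ((Submodule.eq_bot_iff _).1 h v hcon)
  · exact ha (C.nd.1 a fun w => (h.ge Submodule.mem_top : w ∈ W) a hSa)

omit [CharP F 2] in
theorem Full.exists_opp (C : Ctx B L) {a : V} (h : Full B L a) {v : V} (hv : v ≠ 0) :
    ∃ b, Full B L b ∧ B b v = 1 := by
  obtain ⟨b, hb, hbv⟩ := C.exists_ne (Full B L) (fun g hg v hv => hv.conj C hg) h.1 h hv
  exact ⟨(B b v)⁻¹ • b, hb.smul (inv_ne_zero hbv), by simp [inv_mul_cancel₀ hbv]⟩

omit [CharP F 2] in
theorem A.exists_apply (C : Ctx B L) {a u : V} {c : F} (h : A B L a u c) :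
    ∃ g ∈ L, g a = a ∧ ∀ z, g z = z + B z a • u + (B z u + c * B z a) • a := by
  obtain ⟨h0, g, hg, H⟩ := h
  refine ⟨g, hg, ?_, H⟩
  rw [H, C.self, alt_eq_zero_comm C.alt h0]; simp

omit [CharP F 2] in
theorem A.move (C : Ctx B L) {a u b : V} {c : F} (h : A B L a u c) (hb : Full B L b) :
    Full B L (b + B b a • u + (B b u + c * B b a) • a) := by
  obtain ⟨-, g, hg, H⟩ := h
  rw [← H]; exact hb.conj C hg

variable [FiniteDimensional F V]

omit [CharP F 2] in
theorem Ctx.exists_orth (C : Ctx B L) {a x : V} (hx : x ∉ Submodule.span F {a}) (t : F) :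
    ∃ y, B y a = 0 ∧ B y x = t := by
  obtain ⟨u, hu, hux⟩ := exists_left_orth_ne_zero B C.nd _ hx
  exact ⟨(t / B u x) • u, by simp [hu a (Submodule.mem_span_singleton_self a)],
    by simp [div_mul_cancel₀ _ hux]⟩

theorem Full.exists_line (C : Ctx B L) {a a' : V} (h : Full B L a) (h0 : B a' a = 0)
    (ha : a' ∉ Submodule.span F {a}) (t : F) : ∃ g ∈ L, g a = a ∧ g a' = a' + t • a := by
  obtain ⟨y, hy, hyt⟩ := C.exists_orth ha t
  obtain ⟨c, hc⟩ := h.2 y hy
  obtain ⟨g, hg, hga, H⟩ := hc.exists_apply C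
  exact ⟨g, hg, hga, by rw [H, h0, C.sym a' y, hyt]; simp⟩

theorem Full.line (C : Ctx B L) {a a' : V} (h : Full B L a) (h' : Full B L a') (h0 : B a' a = 0)
    (ha : a' ∉ Submodule.span F {a}) (t : F) : Full B L (a' + t • a) := by
  obtain ⟨g, hg, -, H⟩ := h.exists_line C h0 ha t
  rw [← H]; exact h'.conj C hg

omit [CharP F 2] [FiniteDimensional F V] in
theorem notMem_span_symm {a a' : V} (h : a ≠ 0) (ha : a' ∉ Submodule.span F {a}) :
    a ∉ Submodule.span F {a'} := by
  intro hm
  obtain ⟨t, rfl⟩ := Submodule.mem_span_singleton.1 hm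
  have ht : t ≠ 0 := by rintro rfl; simp at h
  exact ha (Submodule.mem_span_singleton.2 ⟨t⁻¹, by rw [smul_smul, inv_mul_cancel₀ ht, one_smul]⟩)

omit [CharP F 2] [FiniteDimensional F V] in
theorem add_smul_notMem_span {a u : V} (hu : u ∉ Submodule.span F {a}) (t : F) :
    u + t • a ∉ Submodule.span F {a} := fun h =>
  hu ((Submodule.add_mem_iff_left _
    (Submodule.smul_mem _ t (Submodule.mem_span_singleton_self a))).1 h)

/-- A vector with second parameter zero is again a full vector. -/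
theorem Full.of_sing (C : Ctx B L) {a u : V} (h : Full B L a) (hu : A B L a u 0)
    (hua : u ∉ Submodule.span F {a}) : Full B L u := by
  obtain ⟨b, hb, hba⟩ := h.exists_opp C h.1
  have h1 := hu.shift C (B b u)
  have h2 := add_smul_notMem_span hua (B b u)
  set u' := u + B b u • a with hu'
  have h3 : B b u' = 0 := by simp [hu', hba, CharTwo.add_self_eq_zero]
  have h4 : Full B L (b + u') := by simpa [hba, h3] using h1.move C hb
  have h5 := hb.line C h4 (by simp [C.self, C.sym u' b, h3]) (fun hm => by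
    obtain ⟨t, ht⟩ := Submodule.mem_span_singleton.1 hm
    have h6 := congrArg (B · a) ht
    simp only [map_smul, map_add, LinearMap.smul_apply, LinearMap.add_apply, hba, h1.1,
      smul_eq_mul, mul_one, add_zero] at h6
    rw [h6, one_smul, left_eq_add] at ht
    exact h2 (ht ▸ Submodule.zero_mem _)) 1
  rw [one_smul, add_right_comm, vadd_self b F, zero_add] at h5
  have h6 := h.line C h5 h1.1 h2 (B b u)
  rwa [hu', add_assoc, vadd_self _ F, add_zero] at h6

/-- If all transvections with centre `a` are present the group is the symplectic group. -/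
theorem Full.top (C : Ctx B L) {a : V} (h : Full B L a) (hR : ∀ c, A B L a 0 c) : SpB B ≤ L := by
  let P : V → Prop := fun b => Full B L b ∧ ∀ c, A B L b 0 c
  have hP : ∀ g ∈ L, ∀ v, P v → P (g v) := fun g hg v hv =>
    ⟨hv.1.conj C hg, fun c => by simpa using (hv.2 c).conj C hg⟩
  have hs : ∀ (s : F) v, s ≠ 0 → P v → P (s • v) := fun s v hs hv =>
    ⟨hv.1.smul hs, fun c => by
      have := (hv.2 (s ^ 2 * c)).to_smul hs
      rwa [smul_zero, inv_pow, inv_mul_cancel_left₀ (pow_ne_zero 2 hs)] at this⟩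
  have h1 : ∀ v, v ≠ 0 → ∃ b, P b ∧ B b v = 1 := fun v hv => by
    obtain ⟨b, hb, hbv⟩ := C.exists_ne P hP h.1 ⟨h, hR⟩ hv
    exact ⟨(B b v)⁻¹ • b, hs _ _ (inv_ne_zero hbv) hb, by simp [inv_mul_cancel₀ hbv]⟩
  refine SpB_le_of_TSet C.nd C.alt fun v c => ?_
  rcases eq_or_ne v 0 with rfl | hv
  · rw [altTEquiv_zero_left]; exact one_mem _
  obtain ⟨p, hp, hpv⟩ := h1 v hv
  obtain ⟨b, hb, hbp⟩ := h1 p hp.1.1
  obtain ⟨d, hd⟩ := hp.1.2 (v + b) (by simp [C.sym v p, hpv, hbp, CharTwo.add_self_eq_zero])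
  obtain ⟨-, g, hg, H⟩ := hd.add C (hp.2 (d + B b (v + b)))
  have h2 : g b = v := by
    rw [H, hbp]
    simp only [add_zero, map_zero]
    match_scalars <;> grind
  obtain ⟨-, x, hx, H'⟩ := (hP g hg b hb).2 c
  rw [h2] at H'
  convert hx using 1
  ext z
  rw [altTEquiv_apply', H']; simp

omit [FiniteDimensional F V] in
/-- The basic computation for two orthogonal centres. -/
theorem A.collinear (C : Ctx B L) {a a' x y : V} {c : F} (h' : Full B L a') (h : A B L a x c)
    (h0 : B a' a = 0) (hx : B a' x = 0) (hy : B y a' = 0) :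
    A B L a' (B y a • x + (B y x + c * B y a) • a) (B y a ^ 2 * c) := by
  obtain ⟨d, hd⟩ := h'.2 y hy
  obtain ⟨-, g, hg, H⟩ := h
  have h1 := hd.conj C hg
  rw [H a', h0, hx, H y] at h1
  simp only [zero_smul, add_zero, mul_zero] at h1
  convert hd.add C h1 using 1
  · match_scalars <;> grind
  · simp only [map_add, map_smul, smul_eq_mul, C.self]
    grind

end Cfsg.Lib.Class.Ev
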