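import Cfsg.Agent.Class.Ev.Geom
import Cfsg.Agent.Char.SixIndex

/-!
The largest normal `2`-subgroup of a vector stabiliser, and the order of the group in the
exceptional configuration.
-/

set_option autoImplicit false

namespace Cfsg.Lib.Class.Ev

open Module

variable {F V : Type*} [Field F] [AddCommGroup V] [Module F V] [CharP F 2]
  {B : LinearMap.BilinForm F V} {L : Subgroup (V ≃ₗ[F] V)}

theorem exists_fixed (g : V ≃ₗ[F] V) (W : Submodule F V) (hW : ∀ w ∈ W, g w ∈ W) (k : ℕ) :
    ∀ w ∈ W, w ≠ 0 → (g ^ 2 ^ k) w = w → ∃ w' ∈ W, w' ≠ 0 ∧ g w' = w' := by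
  have hp : ∀ n : ℕ, ∀ w ∈ W, (g ^ n) w ∈ W := fun n => by
    induction n with
    | zero => exact fun w hw => hw
    | succ n ih => exact fun w hw => by rw [pow_succ]; exact ih _ (hW w hw)
  induction k with
  | zero => exact fun w hw h0 h => ⟨w, hw, h0, by simpa using h⟩
  | succ k ih =>
    intro w hw h0 h
    by_cases h1 : (g ^ 2 ^ k) w = w
    · exact ih w hw h0 h1
    rw [pow_succ, pow_mul, sq, LinearEquiv.mul_apply] at h
    refine ih _ (W.add_mem (hp (2 ^ k) w hw) hw) (fun h2 => h1 ?_) (by rw [map_add, h, add_comm])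
    rw [← vadd_self w F] at h2
    exact add_right_cancel h2

theorem Ctx.orth_of_pow (C : Ctx B L) {u v : V} {k : ℕ}
    (h : (altTEquiv C.alt v 1 * altTEquiv C.alt u 1) ^ 2 ^ k = 1) : B u v = 0 := by
  by_contra hne
  have H : ∀ r s : F, (altTEquiv C.alt v 1 * altTEquiv C.alt u 1) (r • u + s • v) =
      (r + s * B u v) • u + (s + (r + s * B u v) * B u v) • v := fun r s => by
    simp only [LinearEquiv.mul_apply, altTEquiv_apply', map_add, map_smul, LinearMap.add_apply,
      LinearMap.smul_apply, C.self, C.sym v u, smul_eq_mul]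
    match_scalars <;> ring
  obtain ⟨w, hw, h0, h1⟩ := exists_fixed (altTEquiv C.alt v 1 * altTEquiv C.alt u 1)
    (Submodule.span F {u, v}) (fun w hw => by
      obtain ⟨r, s, rfl⟩ := Submodule.mem_span_pair.1 hw
      exact Submodule.mem_span_pair.2 ⟨_, _, (H r s).symm⟩) k u (Submodule.subset_span (by simp))
    (by rintro rfl; simp at hne) (by rw [h]; rfl)
  obtain ⟨r, s, rfl⟩ := Submodule.mem_span_pair.1 hw
  rw [H] at h1
  have e1 := congrArg (B · v) h1
  have e2 := congrArg (B u ·) h1
  simp only [map_add, map_smul, LinearMap.add_apply, LinearMap.smul_apply, C.self,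
    smul_eq_mul] at e1 e2
  have hs : s = 0 := by grind
  have hr : r = 0 := by grind
  exact h0 (by rw [hr, hs]; simp)

variable [FiniteDimensional F V]

/-- A `2`-group of isometries fixing `a` and normalised by the transvections fixing `a` lies in
the unipotent radical of the stabiliser. -/
theorem Ctx.exists_param (C : Ctx B L) {N : Subgroup (V ≃ₗ[F] V)} {a b : V} (hb : B b a = 1)
    (hle : N ≤ SpB B) (hfix : ∀ x ∈ N, x a = a)
    (hn : ∀ x ∈ N, ∀ u, B u a = 0 → altTEquiv C.alt u 1 * x * (altTEquiv C.alt u 1)⁻¹ ∈ N)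
    (hp : ∀ x ∈ N, ∃ k, x ^ 2 ^ k = 1) {x : V ≃ₗ[F] V} (hx : x ∈ N) :
    ∃ u c, B u a = 0 ∧ B b u = 0 ∧ ∀ z, x z = z + B z a • u + (B z u + c * B z a) • a := by
  have k0 : ∀ x ∈ N, ∀ u, B u a = 0 → altTEquiv C.alt (x u) 1 * altTEquiv C.alt u 1 ∈ N :=
    fun x hx u hu => by
      have := mul_mem hx (hn _ (inv_mem hx) u hu)
      rwa [← mul_assoc, ← mul_assoc, altTEquiv_conj C.alt (hle hx), altTEquiv_inv,
        CharTwo.neg_eq] at this
  have k1 : ∀ x ∈ N, ∀ u, B u a = 0 → B u (x u) = 0 := fun x hx u hu => by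
    obtain ⟨k, hk⟩ := hp _ (k0 x hx u hu)
    exact C.orth_of_pow hk
  have k2 : ∀ u, B u a = 0 → ∃ t : F, x u = u + t • a := fun u hu => by
    have hm : x u + u ∈ Submodule.span F {a} := by
      by_contra hm
      obtain ⟨v, hv, hv1⟩ := C.exists_orth hm 1
      have := k1 _ (k0 x hx u hu) v hv
      simp only [LinearEquiv.mul_apply, altTEquiv_apply', map_add, map_smul, LinearMap.add_apply,
        LinearMap.smul_apply, C.self, k1 x hx u hu, smul_eq_mul] at this hv1
      grind
    obtain ⟨t, ht⟩ := Submodule.mem_span_singleton.1 hm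
    exact ⟨t, by rw [ht, add_comm (x u), ← add_assoc, vadd_self u F, zero_add]⟩
  obtain ⟨w, hw⟩ : ∃ w, x b = b + w := ⟨x b - b, by abel⟩
  have iso : ∀ y z, B (x y) (x z) = B y z := hle hx
  have hwa : B w a = 0 := by
    have := iso b a
    rw [hfix x hx, hw, map_add, LinearMap.add_apply] at this
    exact left_eq_add.1 this.symm
  refine ⟨w + B b w • a, B b w, by simp [hwa, C.self], by simp [hb, CharTwo.add_self_eq_zero],
    fun z => ?_⟩
  obtain ⟨t, ht⟩ := k2 (z + B z a • b) (by simp [hb, CharTwo.add_self_eq_zero])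
  have h1 := iso (z + B z a • b) b
  rw [ht, hw] at h1
  simp only [map_add, map_smul, LinearMap.add_apply, LinearMap.smul_apply, C.self, C.sym a b, hb,
    C.sym a w, hwa, smul_eq_mul] at h1
  rw [map_add, map_smul, hw] at ht
  rw [eq_sub_of_add_eq ht]
  simp only [map_add, map_smul, smul_eq_mul]
  match_scalars <;> grind

theorem Ctx.full [Finite F] (C : Ctx B L) {X : Subgroup (V ≃ₗ[F] V)} {a b : V} (hb : B b a = 1)
    (hXL : X ≤ L) (hX : ∀ x ∈ X, ∃ u c, B u a = 0 ∧ B b u = 0 ∧
      ∀ z, x z = z + B z a • u + (B z u + c * B z a) • a)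
    (hcard : Nat.card X = Nat.card F ^ (finrank F V - 2))
    (hT : ∀ x ∈ X, ∀ c : F, (∀ z, x z = z + (c * B z a) • a) → c = 0) : Full B L a := by
  have ha : a ≠ 0 := by rintro rfl; simp at hb
  choose u c hua hbu H using fun x : X => hX x x.2
  let U := B.orthogonal (Submodule.span F {a, b})
  have hU : ∀ v, v ∈ U ↔ B v a = 0 ∧ B b v = 0 := fun v => by
    refine ⟨fun h => ⟨by rw [C.sym]; exact h a (Submodule.subset_span (by simp)),
      h b (Submodule.subset_span (by simp))⟩, fun h y hy => ?_⟩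
    obtain ⟨r, s, rfl⟩ := Submodule.mem_span_pair.1 hy
    simp [C.sym a v, h.1, h.2]
  let φ : X → U := fun x => ⟨u x, (hU _).2 ⟨hua x, hbu x⟩⟩
  have hφ : Function.Injective φ := fun x y hxy => by
    have e : u x = u y := congrArg Subtype.val hxy
    have hc : c x + c y = 0 := hT _ (mul_mem x.2 y.2) _ fun z => by
      rw [LinearEquiv.mul_apply, H y, H x, e]
      simp only [map_add, map_smul, LinearMap.add_apply, LinearMap.smul_apply, C.self, hua,
        C.sym a (u y), smul_eq_mul]
      match_scalars <;> grind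
    ext z
    rw [H x, H y, e, show c x = c y by grind]
  have hl : LinearIndependent F ![a, b] := LinearIndependent.pair_iff.2 fun s t h => by
    have e1 := congrArg (B · a) h
    have e2 := congrArg (B b ·) h
    simpa [C.self, hb, and_comm] using And.intro e1 e2
  have : Finite V := Module.finite_of_finite F
  have hs := (hφ.bijective_of_nat_card_le (by
    rw [hcard, Module.natCard_eq_pow_finrank (K := F), LinearMap.BilinForm.finrank_orthogonal C.nd,
      Orth.finrank_span_pair hl])).2
  refine ⟨ha, fun v hv => ?_⟩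
  obtain ⟨x, hx⟩ := hs ⟨v + B b v • a, (hU _).2 ⟨by simp [hv, C.self],
    by simp [hb, CharTwo.add_self_eq_zero]⟩⟩
  have e : u x = v + B b v • a := congrArg Subtype.val hx
  have h1 : A B L a (u x) (c x) := ⟨hua x, x, hXL x.2, H x⟩
  have h2 := h1.shift C (B b v)
  rw [e, add_assoc, vadd_self _ F, add_zero] at h2
  exact ⟨_, h2⟩

theorem Exc2.dvd_card (C : Ctx B L) (hF : ∀ x : F, x = 0 ∨ x = 1) (hV : Nat.card V = 16)
    {a a' : V} (h : Exc2 B L a a') : 120 ∣ Nat.card L := by
  have : Finite V := Nat.finite_of_card_ne_zero (by omega)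
  have h1 : MulAction.orbit L a = {0}ᶜ := by
    ext v
    refine ⟨?_, fun hv => ?_⟩
    · rintro ⟨g, rfl⟩
      exact (h.conj C g.2).1.1.1
    · obtain ⟨g, hg, e⟩ := h.trans C hF hv
      exact ⟨⟨g, hg⟩, e⟩
  have h2 : 15 ∣ Nat.card L := by
    have := (MulAction.stabilizer L a).index_dvd_card
    have e := Set.ncard_add_ncard_compl ({0} : Set V)
    rwa [MulAction.index_stabilizer, h1, show ({0}ᶜ : Set V).ncard = 15 by
      rw [Set.ncard_singleton] at e; omega] at this
  obtain ⟨b, -, hb⟩ := h.1.1.exists_opp C h.1.1.1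
  have h3 : MulAction.orbit (MulAction.stabilizer L a) b = {v | B v a = 1} := by
    ext v
    refine ⟨?_, fun hv => ?_⟩
    · rintro ⟨g, rfl⟩
      have e : g.1.1 a = a := g.2
      have := C.iso g.1.2 b a
      rwa [e, hb] at this
    · obtain ⟨g, hg, e, e'⟩ := h.trans_opp C hF hb hv
      exact ⟨⟨⟨g, hg⟩, e⟩, e'⟩
  have h4 : 8 ∣ Nat.card L := by
    have := (MulAction.stabilizer (MulAction.stabilizer L a) b).index_dvd_card.trans
      (MulAction.stabilizer L a).card_subgroup_dvd_card
    have e := Set.ncard_add_ncard_compl {v | B v a = 1}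
    have e' : {v | B v a = 1}ᶜ = (· + b) '' {v | B v a = 1} := by
      ext v
      refine ⟨fun hv => ⟨v + b, by simp [(hF _).resolve_right hv, hb], by
        simp only [add_assoc, vadd_self b F, add_zero]⟩, ?_⟩
      rintro ⟨w, hw, rfl⟩
      have : B w a = 1 := hw
      simp [this, hb]
    rw [e', Set.ncard_image_of_injective _ (add_left_injective b)] at e
    rwa [MulAction.index_stabilizer, h3, show {v | B v a = 1}.ncard = 8 by omega] at this
  exact Nat.Coprime.mul_dvd_of_dvd_of_dvd (by norm_num) h2 h4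

theorem six_cases {H : Subgroup (Equiv.Perm (Fin 6))} (h : 120 ∣ Nat.card H) :
    H = ⊤ ∨ H = alternatingGroup (Fin 6) ∨ Nonempty (H ≃* Equiv.Perm (Fin 5)) := by
  obtain ⟨m, hm⟩ := h
  have h1 := H.index_mul_card
  rw [Char.Six.card_S6, hm] at h1
  have h2 : H.index ∣ 6 := ⟨m, by nlinarith⟩
  have h3 : H.index ≠ 3 := fun h3 => by
    have h4 : H.normalCore.index ∣ H.index.factorial := by
      rw [Subgroup.normalCore_eq_ker, Subgroup.index_ker, Subgroup.index_eq_card, ← Nat.card_perm]
      exact Subgroup.card_subgroup_dvd_card (MulAction.toPermHom _ (_ ⧸ H)).range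
    rcases H.normalCore.bot_or_nontrivial with h5 | h5
    · rw [h5, Subgroup.index_bot, Char.Six.card_S6, h3] at h4
      exact absurd h4 (by decide)
    · have := Subgroup.index_dvd_of_le
        ((Equiv.Perm.alternatingGroup_le_of_normal (by simp) h5).trans H.normalCore_le)
      rw [alternatingGroup.index_eq_two, h3] at this
      exact absurd this (by decide)
  have h5 := Nat.le_of_dvd (by norm_num) h2
  interval_cases h6 : H.index <;> first
    | exact Or.inl (Subgroup.index_eq_one.1 h6)
    | exact Or.inr (Or.inl (Equiv.Perm.eq_alternatingGroup_of_index_eq_two h6))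
    | exact Or.inr (Or.inr (Char.Six.nonempty_equiv h6))
    | omega

end Cfsg.Lib.Class.Ev
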