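import Cfsg.Agent.Class.Ev.Orth

/-!
The geometry of the full vectors: the case without orthogonal pairs, the generic case with an
orthogonal pair, and the exceptional configuration over the field with two elements.
-/

set_option autoImplicit false

namespace Cfsg.Lib.Class.Ev

open Module

variable {F V : Type*} [Field F] [AddCommGroup V] [Module F V] [CharP F 2]
  {B : LinearMap.BilinForm F V} {L : Subgroup (V ≃ₗ[F] V)}

/-- Two independent orthogonal full vectors. -/
def Col (B : LinearMap.BilinForm F V) (L : Subgroup (V ≃ₗ[F] V)) (a a' : V) : Prop :=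
  Full B L a ∧ Full B L a' ∧ B a' a = 0 ∧ a' ∉ Submodule.span F {a}

theorem Col.symm (C : Ctx B L) {a a' : V} (h : Col B L a a') : Col B L a' a :=
  ⟨h.2.1, h.1, by rw [C.sym, h.2.2.1], notMem_span_symm h.1.1 h.2.2.2⟩

omit [CharP F 2] in
theorem eq_zero_of_smul_mem_span {a u : V} (hu : u ∉ Submodule.span F {a}) {s : F}
    (h : s • u ∈ Submodule.span F {a}) : s = 0 := by
  by_contra hs
  exact hu ((Submodule.smul_mem_iff _ hs).1 h)

variable [FiniteDimensional F V]

section NoCol

omit [CharP F 2] in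
theorem Ctx.exists_orth_pair (C : Ctx B L) (hn : 3 ≤ finrank F V) (a b : V) :
    ∃ u, u ≠ 0 ∧ B a u = 0 ∧ B b u = 0 := by
  obtain ⟨u, hu, H⟩ := exists_orth_notMem C.nd (Submodule.span F {a, b}) ⊥ (by
    have := Orth.finrank_span_pair_le (F := F) a b
    rw [finrank_bot]; omega)
  exact ⟨u, hu, H a (Submodule.subset_span (by simp)), H b (Submodule.subset_span (by simp))⟩

omit [CharP F 2] [FiniteDimensional F V] in
theorem notMem_span_of_opp {a b u : V} (hba : B b a = 1) (hu : u ≠ 0) (hb : B b u = 0) :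
    u ∉ Submodule.span F {a} := fun hm => by
  obtain ⟨t, rfl⟩ := Submodule.mem_span_singleton.1 hm
  simp only [map_smul, hba, smul_eq_mul, mul_one] at hb
  exact hu (by rw [hb, zero_smul])

variable (C : Ctx B L) (hN : ∀ a a', ¬ Col B L a a') [Finite F]
include C hN

omit [Finite F] in
theorem inj_of_noCol {a u : V} (h : Full B L a) (hu : u ∉ Submodule.span F {a}) {s s' c : F}
    (h1 : A B L a (s • u) c) (h2 : A B L a (s' • u) c) : s = s' := by
  have h3 := h1.add C h2
  rw [← add_smul, CharTwo.add_self_eq_zero] at h3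
  simp only [map_smul, LinearMap.smul_apply, C.self, smul_zero, add_zero] at h3
  have : s + s' = 0 := eq_zero_of_smul_mem_span hu (by
    by_contra hm
    exact hN _ _ ⟨h, h.of_sing C h3 hm, h3.1, hm⟩)
  grind

theorem surj_of_noCol {a u : V} (h : Full B L a) (hu : u ∉ Submodule.span F {a})
    (h0 : B u a = 0) : (∀ c, ∃ s : F, A B L a (s • u) c) ∧ ∀ c, A B L a 0 c → c = 0 := by
  choose φ hφ using fun s : F => h.2 (s • u) (by simp [h0])
  have hs := Finite.injective_iff_surjective.1
    (fun s s' e => inj_of_noCol C hN h hu (hφ s) (e ▸ hφ s') : Function.Injective φ)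
  have key : ∀ c, A B L a 0 c → c = φ 0 := fun c hc => by
    obtain ⟨s, rfl⟩ := hs c
    rw [inj_of_noCol C hN h hu (hφ s) (s' := 0) (by rwa [zero_smul])]
  exact ⟨fun c => let ⟨s, e⟩ := hs c; ⟨s, e ▸ hφ s⟩,
    fun c hc => (key c hc).trans (key 0 (A.zero C a)).symm⟩

theorem R0_of_noCol (hn : 3 ≤ finrank F V) {a : V} (h : Full B L a) (c : F)
    (hc : A B L a 0 c) : c = 0 := by
  obtain ⟨b, -, hba⟩ := h.exists_opp C h.1
  obtain ⟨u, hu, h1, h2⟩ := C.exists_orth_pair hn a b
  exact (surj_of_noCol C hN h (notMem_span_of_opp hba hu h2) (by rw [C.sym, h1])).2 c hc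

theorem hyp_of_noCol (hn : 3 ≤ finrank F V) {a b : V} (h : Full B L a) (hb : Full B L b)
    (hba : B b a = 1) {c : F} (hc : Full B L (b + c • a)) : c = 0 := by
  obtain ⟨u, hu, h1, h2⟩ := C.exists_orth_pair hn a b
  obtain ⟨s, hs⟩ := (surj_of_noCol C hN h (notMem_span_of_opp hba hu h2) (by rw [C.sym, h1])).1 c
  have h3 : Full B L (b + s • u + c • a) := by simpa [hba, h2] using hs.move C hb
  have hm : b + s • u + c • a ∈ Submodule.span F {b + c • a} := by
    by_contra hm
    refine hN _ _ ⟨hc, h3, ?_, hm⟩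
    simp [C.self, hba, C.sym a b, C.sym u a, C.sym u b, h1, h2, CharTwo.add_self_eq_zero]
  obtain ⟨t, ht⟩ := Submodule.mem_span_singleton.1 hm
  have h6 := congrArg (B · a) ht
  simp only [map_smul, map_add, LinearMap.smul_apply, LinearMap.add_apply, hba, C.sym u a, h1,
    C.self, smul_eq_mul, mul_one, add_zero, mul_zero] at h6
  rw [h6, one_smul, add_left_inj, left_eq_add] at ht
  exact R0_of_noCol C hN hn h c (ht ▸ hs)

theorem A_of_noCol (hn : 3 ≤ finrank F V) {a b y : V} (h : Full B L a) (hb : Full B L b)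
    (hba : B b a = 1) (hya : B y a = 0) (hyb : B y b = 0) {d : F}
    (hd : Full B L (a + y + d • b)) : A B L b y d := by
  obtain ⟨d', hd'⟩ := hb.2 y hyb
  have h1 : Full B L (a + (d + d') • b) := by
    convert hd'.move C hd using 1
    simp only [map_add, map_smul, LinearMap.add_apply, LinearMap.smul_apply, C.self, C.sym a b, hba,
      hyb, C.sym a y, hya, C.sym b y, smul_eq_mul]
    match_scalars <;> grind
  have := hyp_of_noCol C hN hn hb h (by rw [C.sym, hba]) h1
  convert hd' using 1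
  grind

theorem jordan (hn : 3 ≤ finrank F V) {a b x z : V} (h : Full B L a) (hb : Full B L b)
    (hba : B b a = 1) (hxb : B x b = 0) (hza : B z a = 0) {c d : F} (hx : A B L a x c)
    (hz : A B L b z d) : A B L a (c • z + B z x • x) (c ^ 2 * d) := by
  rcases eq_or_ne c 0 with rfl | hc
  · have : x = 0 := by
      by_contra hx0
      have hm := notMem_span_of_opp hba hx0 (by rw [C.sym, hxb])
      exact hN _ _ ⟨h, h.of_sing C hx hm, hx.1, hm⟩
    simpa [this] using A.zero C a
  have h1 : A B L b (c⁻¹ • x) c⁻¹ := A_of_noCol C hN hn h hb hba (by simp [hx.1]) (by simp [hxb])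
    (by
      convert (hx.move C hb).smul (inv_ne_zero hc) using 1
      simp only [hba, C.sym b x, hxb]
      match_scalars <;> grind)
  obtain ⟨hxa, g, hg, H⟩ := hx
  obtain ⟨-, g', hg', H'⟩ := h1
  have h2 := hz.conj C (mul_mem (mul_mem hg hg') hg)
  have e1 : (g * g' * g) b = c • a := by
    simp only [LinearEquiv.mul_apply, H, H', map_add, map_smul, LinearMap.add_apply,
      LinearMap.smul_apply, C.self, C.sym a b, hba, C.sym b x, hxb, C.sym a x, hxa, smul_eq_mul]
    match_scalars <;> grind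
  have e2 : c • (g * g' * g) z = c • z + B z x • x := by
    simp only [LinearEquiv.mul_apply, H, H', map_add, map_smul, LinearMap.add_apply,
      LinearMap.smul_apply, C.self, C.sym a b, hba, C.sym b x, hxb, C.sym a x, hxa, smul_eq_mul,
      hza, hz.1]
    match_scalars <;> grind
  rw [e1] at h2
  exact e2 ▸ h2.of_smul

omit hN [Finite F] in
theorem eq_zero_of_four (hn : finrank F V = 4) {a b x y w : V} (hba : B b a = 1)
    (hxa : B x a = 0) (hxb : B x b = 0) (hya : B y a = 0) (hyb : B y b = 0) (hxy : B x y = 1)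
    (h1 : B w a = 0) (h2 : B w b = 0) (h3 : B w x = 0) (h4 : B w y = 0) : w = 0 := by
  have hl : LinearIndependent F ![a, b, x, y] := by
    rw [Fintype.linearIndependent_iff]
    intro g hg
    have e := fun v => congrArg (B · v) hg
    simp only [Fin.sum_univ_four, Matrix.cons_val, map_add, map_smul, LinearMap.add_apply,
      LinearMap.smul_apply, smul_eq_mul, map_zero, LinearMap.zero_apply] at e
    have e1 := e a
    have e2 := e b
    have e3 := e x
    have e4 := e y
    simp only [C.self, hba, hxa, hxb, hya, hyb, hxy, C.sym a b, C.sym a x, C.sym a y, C.sym b x,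
      C.sym b y, C.sym y x, mul_zero, mul_one, add_zero, zero_add] at e1 e2 e3 e4
    intro i; fin_cases i <;> assumption
  have hs := hl.span_eq_top_of_card_eq_finrank' (by simp [hn])
  refine C.nd.1 w fun v => ?_
  have hv : v ∈ Submodule.span F (Set.range ![a, b, x, y]) := hs ▸ Submodule.mem_top
  obtain ⟨c, rfl⟩ := (Submodule.mem_span_range_iff_exists_fun F).1 hv
  simp [Fin.sum_univ_four, h1, h2, h3, h4]

theorem K1_of_noCol (hn : finrank F V = 4) {b : V} (hb : Full B L b) (z : V) (d s : F)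
    (hz : A B L b z d) : A B L b (s • z) (s ^ 2 * d) := by
  obtain ⟨a, h, hab⟩ := hb.exists_opp C hb.1
  have hba : B b a = 1 := by rw [C.sym, hab]
  obtain ⟨x, hx0, hax, hbx⟩ := C.exists_orth_pair (by omega) a b
  obtain ⟨y, hy, hyx⟩ := exists_left_orth_ne_zero B C.nd (Submodule.span F {a, b}) (x := x)
    fun hm => by
      obtain ⟨r, t, rfl⟩ := Submodule.mem_span_pair.1 hm
      simp only [map_add, map_smul, C.self, hab, hba, smul_eq_mul, mul_zero, mul_one, add_zero,
        zero_add] at hax hbx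
      exact hx0 (by rw [hax, hbx]; simp)
  replace hy : ∃ y, B y a = 0 ∧ B y b = 0 ∧ B x y = 1 :=
    ⟨(B y x)⁻¹ • y, by simp [hy a (Submodule.subset_span (by simp))],
      by simp [hy b (Submodule.subset_span (by simp))], by simp [C.sym x y, inv_mul_cancel₀ hyx]⟩
  clear hyx
  obtain ⟨y, hya, hyb, hxy⟩ := hy
  rw [C.sym] at hax hbx
  obtain ⟨c, hc⟩ := h.2 x hax
  obtain ⟨e, he⟩ := h.2 y hya
  have key : ∀ z d, B z a = 0 → A B L b z d →
      d = c * B z y ^ 2 + e * B z x ^ 2 + B z x * B z y := fun z d hza hz => by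
    have j := fun {x c} hxb => jordan C hN (by omega) h hb hba (x := x) (c := c) (d := d) hxb hza
    have j1 := ((j hbx hc hz).add C (j hyb he hz)).add C
      (j (by simp [hbx, hyb]) (hc.add C he) hz)
    have hw : z + B z x • y + B z y • x = 0 :=
      eq_zero_of_four C hn hba hax hbx hya hyb hxy (by simp [hza, hax, hya])
        (by simp [hz.1, hbx, hyb])
        (by simp [C.self, C.sym y x, hxy, CharTwo.add_self_eq_zero])
        (by simp [C.self, hxy, CharTwo.add_self_eq_zero])
    have hv : c • z + B z x • x + (e • z + B z y • y) =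
        (c + e + B x y) • z + B z (x + y) • (x + y) := by
      rw [← add_zero (_ + _ + _ : V), ← hw, hxy, map_add]
      match_scalars <;> grind
    rw [hv, vadd_self _ F, C.self] at j1
    have := R0_of_noCol C hN (by omega) h _ j1
    simp only [map_add, map_smul, LinearMap.add_apply, LinearMap.smul_apply, C.self, smul_eq_mul,
      hxy, C.sym x z] at this
    grind
  have h1 := hz.shift C (B z a)
  set z' := z + B z a • b with hz'
  have h2 : B z' a = 0 := by simp [hz', hba, CharTwo.add_self_eq_zero]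
  obtain ⟨d', hd'⟩ := hb.2 (s • z') (by simp [h1.1])
  have h3 := key _ _ (by simp [h2]) hd'
  have h4 := key _ _ h2 h1
  convert hd'.shift C (s * B z a) using 1
  · rw [hz']; match_scalars <;> grind
  · rw [h3, h4]
    simp only [map_smul, LinearMap.smul_apply, smul_eq_mul]; ring

end NoCol

theorem Full.exists_col [Finite F] (C : Ctx B L) (hn : 5 ≤ finrank F V) {a : V}
    (h : Full B L a) : ∃ a', Col B L a a' := by
  have f1 := Orth.finrank_span_singleton_le (F := F) a
  obtain ⟨u, hu, H⟩ := exists_orth_notMem C.nd (Submodule.span F {a}) (Submodule.span F {a})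
    (by omega)
  have f2 := Orth.finrank_span_pair_le (F := F) a u
  obtain ⟨w, hw, H'⟩ := exists_orth_notMem C.nd (Submodule.span F {a, u}) (Submodule.span F {a, u})
    (by omega)
  have h1 : B u a = 0 := by rw [C.sym, H a (Submodule.mem_span_singleton_self a)]
  have h2 : B w a = 0 := by rw [C.sym, H' a (Submodule.subset_span (by simp))]
  have h3 : B u w = 0 := H' u (Submodule.subset_span (by simp))
  choose φ hφ using fun p : F × F => h.2 (p.1 • u + p.2 • w) (by simp [h1, h2])
  have := Fintype.ofFinite F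
  obtain ⟨p, p', hne, he⟩ := Fintype.exists_ne_map_eq_of_card_lt φ (by
    have := Fintype.one_lt_card (α := F)
    rw [Fintype.card_prod]; nlinarith)
  have h4 := (hφ p).add C (hφ p')
  simp only [he, CharTwo.add_self_eq_zero, map_add, map_smul, LinearMap.add_apply,
    LinearMap.smul_apply, C.self, h3, C.sym w u, smul_zero] at h4
  have hm : p.1 • u + p.2 • w + (p'.1 • u + p'.2 • w) ∉ Submodule.span F {a} := fun hm => by
    obtain ⟨t, ht⟩ := Submodule.mem_span_singleton.1 hm
    have e2 : p.2 + p'.2 = 0 := by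
      by_contra hne
      refine hw ((Submodule.smul_mem_iff _ hne).1 (Submodule.mem_span_pair.2
        ⟨t, p.1 + p'.1, ?_⟩))
      rw [ht]; match_scalars <;> grind
    have e1 : p.1 + p'.1 = 0 := eq_zero_of_smul_mem_span hu (Submodule.mem_span_singleton.2
      ⟨t, by rw [ht]; match_scalars <;> grind⟩)
    exact hne (Prod.ext (by grind) (by grind))
  exact ⟨_, h, h.of_sing C h4 hm, h4.1, hm⟩

section Generic

variable (C : Ctx B L) (hN : ∀ a a', Col B L a a' → ∀ t : F, A B L a (t • a') 0)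
include C hN

theorem Col.smul_mem {a a' x : V} (h : Col B L a a') {c : F} (hx : A B L a x c) (h0 : B a' x = 0)
    (s : F) : A B L a' (s • x) (s ^ 2 * c) := by
  obtain ⟨y, hy, hys⟩ := C.exists_orth (h.symm C).2.2.2 s
  have := (hx.collinear C h.2.1 h.2.2.1 h0 hy).add C (hN _ _ (h.symm C) (B y x + c * B y a))
  rw [add_assoc, vadd_self _ F] at this
  simpa [hys, hx.1, C.self] using this

theorem Col.smul_mem' {a a' x : V} (h : Col B L a a') {c : F} (hx : A B L a x c)
    (h0 : B a' x = 0) (s : F) : A B L a (s • x) (s ^ 2 * c) := by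
  simpa using (h.symm C).smul_mem C hN (h.smul_mem C hN hx h0 s)
    (by simp [C.sym a x, hx.1]) 1

theorem Col.K1 {a a' : V} (h : Col B L a a') (x : V) (c s : F) (hx : A B L a x c) :
    A B L a (s • x) (s ^ 2 * c) := by
  obtain ⟨u, hu, hu1⟩ := C.exists_orth h.2.2.2 1
  obtain ⟨e, he⟩ := h.1.2 u hu
  have h1 : A B L a (u + e • a') 0 := by
    simpa [hu1, CharTwo.add_self_eq_zero] using he.add C (hN _ _ h e)
  set p := u + e • a' with hp
  have h2 : B a' p = 1 := by simp [hp, C.self, C.sym a' u, hu1]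
  have hm : p ∉ Submodule.span F {a} := fun hm => by
    obtain ⟨t, ht⟩ := Submodule.mem_span_singleton.1 hm
    simp [← ht, h.2.2.1] at h2
  have h3 := hN _ _ ⟨h.1, h.1.of_sing C h1 hm, h1.1, hm⟩
  have h4 := (h.smul_mem' C hN (hx.add C (h3 (B a' x)))
    (by simp [h2, CharTwo.add_self_eq_zero]) s).add C (h3 (s * B a' x))
  convert h4 using 1
  · match_scalars <;> grind
  · simp only [map_add, map_smul, LinearMap.add_apply, LinearMap.smul_apply, C.self, smul_eq_mul]
    grind

end Generic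

theorem Col.beta (C : Ctx B L) {a a' : V} (h : Col B L a a') {t β : F} (ht : A B L a (t • a') β)
    (l : F) : A B L a' ((β * l) • a) (l ^ 2 * β) := by
  obtain ⟨y, hy, hys⟩ := C.exists_orth (h.symm C).2.2.2 l
  convert (ht.collinear C h.2.1 h.2.2.1 (by simp [C.self]) hy).shift C (l * t) using 1
  · simp only [hys, map_smul, hy, smul_eq_mul]
    match_scalars <;> grind
  · rw [hys]

/-- The exceptional configuration. -/
def Exc2 (B : LinearMap.BilinForm F V) (L : Subgroup (V ≃ₗ[F] V)) (a a' : V) : Prop :=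
  Col B L a a' ∧ A B L a a' 1 ∧ A B L a' a 1

theorem Col.trich (C : Ctx B L) (hsq : ∀ c : F, ∃ s : F, s ^ 2 = c) {a a' : V}
    (h : Col B L a a') {t : F} (ht : ¬ A B L a (t • a') 0) :
    SpB B ≤ L ∨ (∀ x : F, x = 0 ∨ x = 1) ∧ Exc2 B L a a' := by
  obtain ⟨β, hβ⟩ := h.1.2 (t • a') (by simp [h.2.2.1])
  have hβ0 : β ≠ 0 := by rintro rfl; exact ht hβ
  by_cases hF : ∀ x : F, x = 0 ∨ x = 1
  · obtain rfl := (hF β).resolve_left hβ0
    obtain rfl := (hF t).resolve_left (by rintro rfl; exact ht (by simpa using A.zero C a))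
    exact Or.inr ⟨hF, h, by simpa using hβ, by simpa using h.beta C hβ 1⟩
  push Not at hF
  obtain ⟨ω, hω0, hω1⟩ := hF
  have h1 : ∀ γ s : F, γ ≠ 0 → A B L a (s • a') (s ^ 2 / γ) := fun γ s hγ => by
    obtain ⟨l, hl⟩ := hsq (γ / β)
    have h2 := h.beta C hβ l
    rw [hl, div_mul_cancel₀ _ hβ0] at h2
    convert (h.symm C).beta C h2 (s / γ) using 1
    · rw [mul_div_cancel₀ _ hγ]
    · field_simp
  refine Or.inl (h.1.top C fun c => ?_)
  have hω2 : ω + 1 ≠ 0 := by grind
  obtain ⟨s, hs⟩ := hsq (c * ω / (ω + 1))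
  convert (h1 1 s one_ne_zero).add C (h1 ω s hω0) using 1
  · rw [vadd_self _ F]
  · rw [C.self, hs]; field_simp; ring

theorem Exc2.top (C : Ctx B L) (hF : ∀ x : F, x = 0 ∨ x = 1) (hn : 5 ≤ finrank F V) {a a' : V}
    (h : Exc2 B L a a') : SpB B ≤ L := by
  have f2 := Orth.finrank_span_pair_le (F := F) a a'
  obtain ⟨x, hx, H⟩ := exists_orth_notMem C.nd (Submodule.span F {a, a'})
    (Submodule.span F {a, a'}) (by omega)
  obtain ⟨y, hy, hyx⟩ := exists_left_orth_ne_zero B C.nd _ hx
  obtain ⟨c, hc⟩ := h.1.1.2 x (by rw [C.sym, H a (Submodule.subset_span (by simp))])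
  have h1 := (hc.collinear C h.1.2.1 h.1.2.2.1 (H a' (Submodule.subset_span (by simp)))
    (hy a' (Submodule.subset_span (by simp)))).add C h.2.2
  rw [hy a (Submodule.subset_span (by simp)), (hF _).resolve_left hyx] at h1
  refine h.1.2.1.top C fun c => ?_
  rcases hF c with rfl | rfl
  · exact A.zero C _
  · simpa [vadd_self a F, C.self] using h1

omit [CharP F 2] [FiniteDimensional F V] in
theorem Exc2.conj (C : Ctx B L) {g : V ≃ₗ[F] V} (hg : g ∈ L) {a a' : V} (h : Exc2 B L a a') :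
    Exc2 B L (g a) (g a') :=
  ⟨⟨h.1.1.conj C hg, h.1.2.1.conj C hg, by rw [C.iso hg, h.1.2.2.1], fun hm => by
    obtain ⟨t, ht⟩ := Submodule.mem_span_singleton.1 hm
    exact h.1.2.2.2 (Submodule.mem_span_singleton.2 ⟨t, g.injective (by rw [map_smul, ht])⟩)⟩,
    h.2.1.conj C hg, h.2.2.conj C hg⟩

theorem Exc2.trans_opp (C : Ctx B L) (hF : ∀ x : F, x = 0 ∨ x = 1) {a a' b v : V}
    (h : Exc2 B L a a') (hb : B b a = 1) (hv : B v a = 1) : ∃ g ∈ L, g a = a ∧ g b = v := by
  obtain ⟨k, hk, hka, hk'⟩ := h.1.1.exists_line C h.1.2.2.1 h.1.2.2.2 (B b a')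
  have h' := h.conj C hk
  rw [hka, hk'] at h'
  set p := a' + B b a' • a with hp
  have h1 : B b p = 0 := by simp [hp, hb, CharTwo.add_self_eq_zero]
  obtain ⟨g₁, hg₁, ha₁, H₁⟩ := h'.2.1.exists_apply C
  obtain ⟨-, g₂, hg₂, H₂⟩ := h'.2.2
  have h2 : B a p = 0 := by rw [C.sym, h'.1.2.2.1]
  have e1 : (g₁ * g₂) a = a := by
    rw [LinearEquiv.mul_apply, H₂, h2, C.self]; simpa using ha₁
  have e2 : (g₁ * g₂) b = b + a := by
    simp only [LinearEquiv.mul_apply, H₂, H₁, h1, hb, map_add, map_smul, LinearMap.add_apply,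
      LinearMap.smul_apply, C.self, h'.1.2.2.1, h2, smul_eq_mul]
    match_scalars <;> grind
  obtain ⟨c, hc⟩ := h.1.1.2 (v + b) (by simp [hb, hv, CharTwo.add_self_eq_zero])
  obtain ⟨g, hg, ha, H⟩ := hc.exists_apply C
  have e3 : g b = v + (B b v + c) • a := by
    simp only [H, hb, map_add, C.self]
    match_scalars <;> grind
  rcases hF (B b v + c) with e | e
  · exact ⟨g, hg, ha, by rw [e3, e]; simp⟩
  · refine ⟨g * (g₁ * g₂), mul_mem hg (mul_mem hg₁ hg₂), ?_, ?_⟩
    · rw [LinearEquiv.mul_apply, e1, ha]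
    · rw [LinearEquiv.mul_apply, e2, map_add, e3, ha, e, one_smul, add_assoc, vadd_self a F,
        add_zero]

theorem Exc2.trans (C : Ctx B L) (hF : ∀ x : F, x = 0 ∨ x = 1) {a a' v : V}
    (h : Exc2 B L a a') (hv : v ≠ 0) : ∃ g ∈ L, g a = v := by
  have key : ∀ v, v ≠ 0 → ∃ g ∈ L, B (g a) v = 1 := fun v hv => by
    obtain ⟨_, ⟨g, hg, rfl⟩, H⟩ := C.exists_ne (fun b => ∃ g ∈ L, g a = b)
      (by rintro g hg _ ⟨k, hk, rfl⟩; exact ⟨g * k, mul_mem hg hk, rfl⟩) h.1.1.1
      ⟨1, one_mem _, rfl⟩ hv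
    exact ⟨g, hg, (hF _).resolve_left H⟩
  obtain ⟨g, hg, H⟩ := key v hv
  obtain ⟨k, hk, H'⟩ := key (g a) (h.conj C hg).1.1.1
  obtain ⟨x, hx, -, e⟩ := (h.conj C hg).trans_opp C hF H' (v := v) (by rw [C.sym, H])
  exact ⟨x * k, mul_mem hx hk, e⟩

/-- The three possibilities for an irreducible group with a full vector. -/
theorem Full.cases [Finite F] (C : Ctx B L) (hsq : ∀ c : F, ∃ s : F, s ^ 2 = c)
    (hn : 4 ≤ finrank F V) {a : V} (h : Full B L a) :
    SpB B ≤ L ∨ (∃ Q : QuadraticForm F V, (∀ u v, QuadraticMap.polar Q u v = B u v) ∧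
      L ≤ Orth.O Q ∧ (Orth.O Q ≤ L ∨ ∀ g : Orth.O Q, g.1 ∈ L ↔ Orth.dick g = 1)) ∨
      (∀ x : F, x = 0 ∨ x = 1) ∧ finrank F V = 4 ∧ ∃ a a', Exc2 B L a a' := by
  by_cases hN : ∀ a a', ¬ Col B L a a'
  · have h4 : finrank F V = 4 := by
      by_contra h4
      obtain ⟨a', ha'⟩ := h.exists_col C (by omega)
      exact hN _ _ ha'
    exact Or.inr (Or.inl (exists_orth C (by omega) hsq h (R0_of_noCol C hN (by omega) h)
      (K1_of_noCol C hN h4 h) fun p hp h0 hm => absurd ⟨h, hp, h0, hm⟩ (hN _ _)))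
  push Not at hN
  obtain ⟨p, p', hp⟩ := hN
  by_cases hN : ∀ a a', Col B L a a' → ∀ t : F, A B L a (t • a') 0
  · by_cases R0 : ∀ c, A B L p 0 c → c = 0
    · exact Or.inr (Or.inl (exists_orth C (by omega) hsq hp.1 R0 (hp.K1 C hN) fun x hx h0 hm => by
        simpa using hN _ _ ⟨hp.1, hx, h0, hm⟩ 1))
    push Not at R0
    obtain ⟨c, hc, hc0⟩ := R0
    refine Or.inl (hp.1.top C fun d => ?_)
    obtain ⟨s, hs⟩ := hsq (d / c)
    simpa [hs, hc0] using hp.K1 C hN _ _ s hc
  push Not at hN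
  obtain ⟨x, x', hx, t, ht⟩ := hN
  rcases hx.trich C hsq ht with h1 | ⟨hF, h1⟩
  · exact Or.inl h1
  by_cases h4 : finrank F V = 4
  · exact Or.inr (Or.inr ⟨hF, h4, _, _, h1⟩)
  · exact Or.inl (h1.top C hF (by omega))

end Cfsg.Lib.Class.Ev
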