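import Cfsg.Agent.Class.Ev.Basic
import Cfsg.Agent.Class.OrthEich
import Cfsg.Agent.Known.QuadSum

/-!
The orthogonal end game: the Dickson invariant for every non-degenerate form, subgroups containing
all Eichler transformations in characteristic two, and the construction of the invariant form.
-/

set_option autoImplicit false

namespace Cfsg.Lib.Class.Ev

open Module QuadraticMap Orth Known

variable {F V : Type*} [Field F] [AddCommGroup V] [Module F V] [FiniteDimensional F V]

section Dick

variable {Q : QuadraticForm F V}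

theorem not_exc_prod (hn : 3 ≤ finrank F V) : ¬ Exc (Q.prod Q) :=
  not_exc_of_finrank (by rw [finrank_prod]; omega)

theorem dick_mul' (hQ : (polarBilin Q).Nondegenerate) (hn : 3 ≤ finrank F V) (g h : O Q) :
    dick (g * h) = dick g * dick h := by
  have H := isOSum_prod Q Q
  have := dick_mul (H.nondegenerate hQ hQ) (not_exc_prod hn) (H.hom (g, 1)) (H.hom (h, 1))
  rwa [← map_mul, Prod.mk_mul_mk, H.dick_hom, H.dick_hom, H.dick_hom, mul_one, dick_one, mul_one,
    mul_one, mul_one] at this

theorem dick_eich (hQ : (polarBilin Q).Nondegenerate) (hn : 3 ≤ finrank F V) {p w : V}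
    (hp : Q p = 0) (hw : polar Q p w = 0) : dick (eich Q p w) = 1 := by
  have H := isOSum_prod Q Q
  have h1 : eich (Q.prod Q) (p, 0) (w, 0) = H.hom (eich Q p w, 1) := H.eq_hom fun a b => by
    have e := fun x x' y y' => H.polar_eq x x' y y'
    simp only [LinearEquiv.refl_apply] at e ⊢
    rw [eich_apply (by simpa using hp) (by simpa [e] using hw), eich_apply hp hw]
    simp [e]
  have := dick_eq_one_of_mem_commutator (H.nondegenerate hQ hQ) (not_exc_prod hn)
    (eich_mem_commutator (H.nondegenerate hQ hQ) (not_exc_prod hn) (p, 0) (w, 0))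
  rwa [h1, H.dick_hom, dick_one, mul_one] at this

/-- The Dickson invariant as a homomorphism, in dimension at least three. -/
noncomputable def dickHom' (hQ : (polarBilin Q).Nondegenerate) (hn : 3 ≤ finrank F V) :
    O Q →* ℤˣ where
  toFun := dick
  map_one' := dick_one
  map_mul' := dick_mul' hQ hn

theorem mem_EG_of_dick (hQ : (polarBilin Q).Nondegenerate) (hn : 3 ≤ finrank F V)
    (hsq : ∀ c : F, ∃ s : F, s ^ 2 = c) {e f : V} (he : Q e = 0) (hf : Q f = 0)
    (hef : polar Q e f = 1) {g : O Q} (hg : dick g = 1) : g ∈ EG Q := by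
  obtain ⟨ρ, hρe⟩ : ∃ ρ, refl Q (e + (1 : F) • f) = ρ := ⟨_, rfl⟩
  have hρ : ρ * ρ = 1 := hρe ▸ refl_mul_self _
  have hρ' : ρ⁻¹ = ρ := inv_eq_of_mul_eq_one_left hρ
  have N := normal_EG (Q := Q)
  let K : Subgroup (O Q) :=
    { carrier := {x | x ∈ EG Q ∨ x * ρ ∈ EG Q}
      one_mem' := Or.inl (one_mem _)
      mul_mem' := by
        rintro x y (hx | hx) (hy | hy)
        · exact Or.inl (mul_mem hx hy)
        · exact Or.inr (by rw [mul_assoc]; exact mul_mem hx hy)
        · refine Or.inr ?_
          convert mul_mem hx (N.conj_mem _ hy ρ) using 1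
          rw [hρ']
          calc x * y * ρ = x * (ρ * ρ) * y * ρ := by rw [hρ, mul_one]
            _ = _ := by group
        · refine Or.inl ?_
          convert mul_mem hx (N.conj_mem _ hy ρ) using 1
          rw [hρ']
          calc x * y = x * (ρ * ρ) * y * (ρ * ρ) := by rw [hρ, mul_one, mul_one]
            _ = _ := by group
      inv_mem' := by
        rintro x (hx | hx)
        · exact Or.inl (inv_mem hx)
        · refine Or.inr ?_
          convert N.conj_mem _ (inv_mem hx) ρ using 1
          rw [mul_inv_rev, hρ', ← mul_assoc, hρ, one_mul] }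
  have hK : K = ⊤ := eq_top_of_refl_of_eich hQ (fun v hv => by
    obtain ⟨x, hx, c, hc, H⟩ := exists_EG_conj_refl he hf hef hQ hv
    obtain ⟨s, hs⟩ := hsq (1 / c)
    have hs0 : s ≠ 0 := by
      rintro rfl
      exact one_div_ne_zero hc (by rw [← hs]; simp)
    have h1 := tor_sq_mem_EG hQ hn he hf hef hs0
    rw [hs, ← refl_hyp_mul_refl_hyp he hf hef hc one_ne_zero, ← H, hρe] at h1
    refine Or.inr ?_
    convert mul_mem (mul_mem (inv_mem hx) h1) (N.conj_mem _ hx ρ⁻¹) using 1
    group) fun p w _ _ => Or.inl (eich_mem_EG p w)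
  have hD : EG Q ≤ (dickHom' hQ hn).ker := EG_le fun p w hp hw => dick_eich hQ hn hp hw
  rcases (hK.ge (Subgroup.mem_top g) : g ∈ EG Q ∨ g * ρ ∈ EG Q) with h | h
  · exact h
  · have : dick (g * ρ) = 1 := hD h
    rw [← hρe, dick_mul_refl hQ _ (by simp [Q_add, he, hf, hef]), hg] at this
    exact absurd this (by decide)

/-- A subgroup containing all Eichler transformations, over a field all of whose elements are
squares. -/
theorem eq_top_or_dick (hQ : (polarBilin Q).Nondegenerate) (hn : 3 ≤ finrank F V)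
    (hsq : ∀ c : F, ∃ s : F, s ^ 2 = c) {e f : V} (he : Q e = 0) (hf : Q f = 0)
    (hef : polar Q e f = 1) {K : Subgroup (O Q)}
    (h : ∀ p w, Q p = 0 → polar Q p w = 0 → eich Q p w ∈ K) :
    K = ⊤ ∨ ∀ g, g ∈ K ↔ dick g = 1 := by
  have h1 : ∀ g, dick g = 1 → g ∈ K := fun g hg =>
    EG_le h (mem_EG_of_dick hQ hn hsq he hf hef hg)
  by_cases h2 : ∀ g ∈ K, dick g = 1
  · exact Or.inr fun g => ⟨h2 g, h1 g⟩
  · push Not at h2
    obtain ⟨x, hx, hx1⟩ := h2
    refine Or.inl (eq_top_iff.2 fun g _ => ?_)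
    rcases Int.units_eq_one_or (dick g) with h3 | h3
    · exact h1 g h3
    · refine (K.mul_mem_cancel_right hx).1 (h1 _ ?_)
      rw [dick_mul' hQ hn, h3, (Int.units_eq_one_or _).resolve_left hx1]; simp

theorem dick_eq_one_iff (t : O Q) :
    dick t = 1 ↔ Even (finrank F (LinearMap.range (t.1.toLinearMap - LinearMap.id))) := by
  have h1 : fixs t = LinearMap.ker (t.1.toLinearMap - LinearMap.id) := by
    ext v; simp [mem_fixs, sub_eq_zero]
  rw [dick, h1, ← LinearMap.finrank_range_add_finrank_ker (t.1.toLinearMap - LinearMap.id),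
    add_assoc, pow_add, ← two_mul, pow_mul, neg_one_sq, one_pow, mul_one,
    neg_one_pow_eq_one_iff_even (by decide)]

end Dick

variable [CharP F 2] {B : LinearMap.BilinForm F V} {L : Subgroup (V ≃ₗ[F] V)}

omit [FiniteDimensional F V] in
theorem exists_quad (C : Ctx B L) {a b : V} (h : Full B L a) (hba : B b a = 1)
    (R0 : ∀ c, A B L a 0 c → c = 0)
    (K1 : ∀ u c s, A B L a u c → A B L a (s • u) (s ^ 2 * c)) :
    ∃ Q : QuadraticForm F V, (∀ u v, polar Q u v = B u v) ∧ Q b = 0 ∧
      ∀ u, B u a = 0 → A B L a u (Q u) := by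
  have uniq : ∀ u c c', A B L a u c → A B L a u c' → c = c' := fun u c c' h1 h2 => by
    have := h1.add C h2
    rw [vadd_self u F, C.self, add_zero] at this
    have := R0 _ this
    grind
  have hπ : ∀ v, B (v + B v a • b) a = 0 := fun v => by simp [hba, CharTwo.add_self_eq_zero]
  choose c hc using fun v => h.2 _ (hπ v)
  have hadd : ∀ v w, c (v + w) = c v + c w + B (v + B v a • b) (w + B w a • b) := fun v w =>
    uniq _ _ _ (hc _) (by
      convert (hc v).add C (hc w) using 1
      simp only [map_add, LinearMap.add_apply]; module)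
  have hadd' : ∀ v w, c (v + w) + B (v + w) a * B b (v + w) =
      c v + B v a * B b v + (c w + B w a * B b w) + B v w := fun v w => by
    rw [hadd]
    simp only [map_add, map_smul, LinearMap.add_apply, LinearMap.smul_apply, smul_eq_mul, C.self,
      C.sym v b]
    grind
  let Q : QuadraticForm F V :=
    { toFun := fun v => c v + B v a * B b v
      toFun_smul := fun s v => by
        rw [uniq _ _ _ (hc (s • v)) (by
          convert K1 _ _ s (hc v) using 1
          simp only [map_smul, LinearMap.smul_apply, smul_eq_mul]; module)]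
        simp only [map_smul, LinearMap.smul_apply, smul_eq_mul]; ring
      exists_companion' := ⟨B, hadd'⟩ }
  have hQ : ∀ v, Q v = c v + B v a * B b v := fun _ => rfl
  refine ⟨Q, fun u v => ?_, ?_, fun u hu => ?_⟩
  · rw [polar, hQ, hadd', hQ, hQ]; ring
  · have := hc b
    rw [hba, one_smul, vadd_self b F] at this
    rw [hQ, R0 _ this, C.self]; simp
  · simpa [hQ, hu] using hc u

variable {Q : QuadraticForm F V}

omit [FiniteDimensional F V] in
theorem A.eich_mem (C : Ctx B L) (hp : ∀ u v, polar Q u v = B u v) {p w : V} (h0 : Q p = 0)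
    (h : A B L p w (Q w)) : (eich Q p w).1 ∈ L := by
  obtain ⟨h1, g, hg, H⟩ := h
  convert hg using 1
  ext z
  rw [eich_apply h0 (by rw [hp, C.sym, h1]), H, hp, hp]
  match_scalars <;> grind

/-- The invariant quadratic form. -/
theorem exists_orth (C : Ctx B L) (hn : 3 ≤ finrank F V) (hsq : ∀ c : F, ∃ s : F, s ^ 2 = c)
    {a : V} (h : Full B L a) (R0 : ∀ c, A B L a 0 c → c = 0)
    (K1 : ∀ u c s, A B L a u c → A B L a (s • u) (s ^ 2 * c))
    (K2 : ∀ p, Full B L p → B p a = 0 → p ∉ Submodule.span F {a} → A B L a p 0) :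
    ∃ Q : QuadraticForm F V, (∀ u v, polar Q u v = B u v) ∧ L ≤ O Q ∧
      (O Q ≤ L ∨ ∀ g : O Q, g.1 ∈ L ↔ dick g = 1) := by
  obtain ⟨b, hb, hba⟩ := h.exists_opp C h.1
  obtain ⟨Q, hp, hQb, hA⟩ := exists_quad C h hba R0 K1
  have hQ : (polarBilin Q).Nondegenerate := polarBilin_eq_of_forall hp ▸ C.nd
  have uniq : ∀ u c, A B L a u c → Q u = c := fun u c h1 => by
    have := h1.add C (hA u h1.1)
    rw [vadd_self u F, C.self, add_zero] at this
    have := R0 _ this
    grind
  have hQa : Q a = 0 := uniq _ _ (by simpa using A.self C a 1)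
  have K3 : ∀ p, Full B L p → B p a = 0 → Q p = 0 := fun p hp hpa => by
    by_cases hm : p ∈ Submodule.span F {a}
    · obtain ⟨t, rfl⟩ := Submodule.mem_span_singleton.1 hm
      rw [Q_smul, hQa, mul_zero]
    · exact uniq _ _ (K2 p hp hpa hm)
  have opp : ∀ p, B p a = 1 → Full B L (p + Q p • a) := fun p hpa => by
    convert (hA (p + b) (by simp [hpa, hba, CharTwo.add_self_eq_zero])).move C hb using 1
    simp only [hba, Q_add, hQb, hp, map_add, C.self, C.sym b p]
    match_scalars <;> grind
  have sing1 : ∀ p, Full B L p → B p a = 1 → Q p = 0 := fun p hp' hpa => by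
    by_contra hne
    have h1 := opp p hpa
    have h2 : Q (p + Q p • a) = 0 := by
      rw [Q_add, Q_smul, hQa, hp, map_smul, hpa, smul_eq_mul]; grind
    obtain ⟨u, hu1, hu2, hu3⟩ := exists_nonsing_orth_hyp hQ hn hQa h2 (by
      simp [hp, C.self, C.sym a p, hpa])
    obtain ⟨s, hs⟩ := hsq (Q p / Q u)
    rw [hp, C.sym] at hu1
    have hu4 : B p u = 0 := by simpa [hp, C.sym a u, hu1] using hu2
    have h3 : Q (s • u) = Q p := by rw [Q_smul, hs, div_mul_cancel₀ _ hu3]
    have h4 : B (s • u) a = 0 := by simp [hu1]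
    have h5 : Full B L (p + s • u) := by
      convert (hA _ h4).move C h1 using 1
      simp only [h3, map_add, map_smul, LinearMap.add_apply, LinearMap.smul_apply, C.self, hpa, hu4,
        C.sym a u, hu1, smul_eq_mul]
      match_scalars <;> grind
    have h6 := hp'.line C h5 (by simp [C.self, C.sym u p, hu4]) (fun hm => by
      obtain ⟨t, ht⟩ := Submodule.mem_span_singleton.1 hm
      have h6 := congrArg (B · a) ht
      simp only [map_smul, map_add, LinearMap.smul_apply, LinearMap.add_apply, hpa, hu1,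
        smul_eq_mul, mul_one, add_zero, mul_zero] at h6
      rw [h6, one_smul, left_eq_add] at ht
      exact hne (by rw [← h3, ht, map_zero])) 1
    rw [one_smul, add_right_comm, vadd_self p F, zero_add] at h6
    exact hne (h3 ▸ K3 _ h6 h4)
  have sing : ∀ p, Full B L p → Q p = 0 := fun p hp' => by
    by_cases hpa : B p a = 0
    · exact K3 p hp' hpa
    · have := sing1 _ (hp'.smul (inv_ne_zero hpa)) (by simp [inv_mul_cancel₀ hpa])
      simpa [Q_smul, hpa] using this
  have hL : L ≤ O Q := by
    let W : Submodule F V :=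
      { carrier := {w | ∀ g ∈ L, Q (g w) = Q w}
        add_mem' := fun hx hy g hg => by
          rw [map_add, Q_add, Q_add, hx g hg, hy g hg, hp, hp, C.iso hg]
        zero_mem' := fun g _ => by rw [map_zero]
        smul_mem' := fun c x hx g hg => by rw [map_smul, Q_smul, Q_smul, hx g hg] }
    rcases C.irr W (fun g hg w hw x hx => by
      rw [hw g hg]; exact hw _ (mul_mem hx hg)) with h1 | h1
    · exact absurd ((Submodule.eq_bot_iff _).1 h1 a fun g hg => by
        rw [hQa, sing _ (h.conj C hg)]) h.1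
    · exact fun g hg => mem_O.2 fun v => (h1.ge Submodule.mem_top : v ∈ W) g hg
  have full : ∀ p, p ≠ 0 → Q p = 0 → Full B L p := fun p hp0 hQp => by
    by_cases hpa : B p a = 0
    · by_cases hm : p ∈ Submodule.span F {a}
      · obtain ⟨t, rfl⟩ := Submodule.mem_span_singleton.1 hm
        exact h.smul (left_ne_zero_of_smul hp0)
      · exact h.of_sing C (hQp ▸ hA p hpa) hm
    · have := (opp ((B p a)⁻¹ • p) (by simp [inv_mul_cancel₀ hpa])).smul hpa
      simpa [Q_smul, hQp, smul_smul, mul_inv_cancel₀ hpa] using this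
  refine ⟨Q, hp, hL, (eq_top_or_dick hQ hn hsq hQb hQa (by rw [hp, hba])
    (K := L.subgroupOf (O Q)) fun p w hQp hw => ?_).imp
      (fun h1 => Subgroup.subgroupOf_eq_top.1 h1) id⟩
  rcases eq_or_ne p 0 with rfl | hp0
  · rw [eich_zero_left]; exact one_mem _
  rw [hp, C.sym] at hw
  obtain ⟨c, hc⟩ := (full p hp0 hQp).2 w hw
  refine A.eich_mem C hp hQp ?_
  obtain ⟨z, -, hz⟩ := h.exists_opp C hp0
  obtain ⟨-, g, hg, H⟩ := id hc
  have h1 := mem_O.1 (hL hg) z
  rw [H, hz] at h1
  simp only [Q_add, Q_smul, hQp, hp, map_smul, map_add, LinearMap.add_apply, LinearMap.smul_apply,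
    hz, hw, smul_eq_mul] at h1
  convert hc using 1
  grind

end Cfsg.Lib.Class.Ev
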